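import Cfsg.Agent.H979.TwoLenA
import Cfsg.Agent.H552.Crit3
import Cfsg.Agent.H552.Crit4
import Cfsg.Agent.H557.PartS
import Cfsg.Agent.H552.Bilin
import Cfsg.Agent.H979.TwoLenQ5
import Cfsg.Agent.H552.QuadQ
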